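import Cfsg.Agent.HexStart.HexPure
import Cfsg.Agent.HexStart.HexLong
import Cfsg.Agent.OddHalf.D4.Free.AutFacts
import Cfsg.Agent.OddHalf.DblR.HexK.AutForm
import Cfsg.Agent.StdRank2.OutField

-- merged: Cfsg.Agent.OddHalf.D4.HexFree.Flt
section

/-!
# `G₂(q)`, `³D₄(q)`: the filtration of `U` by lines

`Lv j` : the levels `X₁…X₆ > X₂X₃X₄X₅ > X₂X₃X₄ > X₂X₄ > X₄ > 1`; `line k s = {x_k(t s) : σ t = t}`.
* `fix_line` : `[U, line] ≤ ` next level;
* **`star`** : an element of `U` commuting with `x_k(s)`, `s ≠ 0`, commutes with `line k s`.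
-/

set_option autoImplicit false
set_option maxHeartbeats 400000

namespace Cfsg.Agent.OddHalf.D4.HexFree

open Subgroup Cfsg.Agent.StdRank2.Hex Cfsg.Agent.StdRank2.Hex.HexTwo Cfsg.Agent.SplitTwo
open scoped commutatorElement

variable {E : Type*} [Field E] {σ : E ≃+* E} {G : Type*} [Group G] {x : ZMod 12 → E → G}

/-! ### Levels and lines -/

/-- the levels -/
def Lv : ℕ → Set (ZMod 12)
  | 0 => arc 1 6
  | 1 => arc 2 4
  | 2 => arc 2 3
  | 3 => {2, 4}
  | 4 => {4}
  | _ => ∅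

/-- the roots of the level `j` -/
def Tp : ℕ → ZMod 12 → Prop
  | 0, k => k = 1 ∨ k = 6
  | 1, k => k = 5
  | 2, k => k = 3
  | 3, k => k = 2
  | 4, k => k = 4
  | _, _ => False

theorem Lv_succ (j : ℕ) : Lv (j + 1) ⊆ Lv j := by
  rcases j with _ | _ | _ | _ | _ | j
  · show arc 2 4 ⊆ arc 1 6
    intro k hk
    have : ∀ k : ZMod 12, (k - 2).val < 4 → (k - 1).val < 6 := by decide
    exact this k hk
  · show arc 2 3 ⊆ arc 2 4
    exact arc_mono (by norm_num)
  · show ({2, 4} : Set (ZMod 12)) ⊆ arc 2 3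
    rintro k (rfl | rfl)
    · show ((2 : ZMod 12) - 2).val < 3
      decide
    · show ((4 : ZMod 12) - 2).val < 3
      decide
  · show ({4} : Set (ZMod 12)) ⊆ {2, 4}
    rintro k rfl
    exact Or.inr rfl
  · exact Set.empty_subset _
  · exact Set.empty_subset _

theorem Lv_cases (j : ℕ) {k : ZMod 12} (hk : k ∈ Lv j) : k ∈ Lv (j + 1) ∨ Tp j k := by
  rcases j with _ | _ | _ | _ | _ | j
  · have : ∀ k : ZMod 12, (k - 1).val < 6 → (k - 2).val < 4 ∨ (k = 1 ∨ k = 6) := by decide
    exact this k hk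
  · have : ∀ k : ZMod 12, (k - 2).val < 4 → (k - 2).val < 3 ∨ k = 5 := by decide
    exact this k hk
  · have : ∀ k : ZMod 12, (k - 2).val < 3 → (k = 2 ∨ k = 4) ∨ k = 3 := by decide
    exact this k hk
  · rcases hk with rfl | rfl
    · exact Or.inr rfl
    · exact Or.inl rfl
  · exact Or.inr hk
  · exact absurd hk (Set.notMem_empty _)

theorem Tp_Lv {j : ℕ} {k : ZMod 12} (hk : Tp j k) : k ∈ Lv j := by
  rcases j with _ | _ | _ | _ | _ | j
  · have : ∀ k : ZMod 12, (k = 1 ∨ k = 6) → (k - 1).val < 6 := by decide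
    exact this k hk
  · have : ∀ k : ZMod 12, k = 5 → (k - 2).val < 4 := by decide
    exact this k hk
  · have : ∀ k : ZMod 12, k = 3 → (k - 2).val < 3 := by decide
    exact this k hk
  · exact Or.inl hk
  · exact hk
  · exact hk.elim

/-- the `F`-line through `x_k(s)` -/
def line (h : HexTwo σ x) (k : ZMod 12) (s : E) (hs : Ok σ k s) : Subgroup G where
  carrier := {y | ∃ t, σ t = t ∧ y = x k (t * s)}
  one_mem' := ⟨0, map_zero σ, by rw [zero_mul, h.x_zero]⟩
  mul_mem' := by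
    rintro _ _ ⟨t, ht, rfl⟩ ⟨u, hu, rfl⟩
    exact ⟨t + u, by rw [map_add, ht, hu], by
      rw [add_mul, h.add k _ _ ((ok_of_fix k ht).mul hs) ((ok_of_fix k hu).mul hs)]⟩
  inv_mem' := by
    rintro _ ⟨t, ht, rfl⟩
    exact ⟨t, ht, h.x_inv ((ok_of_fix k ht).mul hs)⟩

theorem mem_line {h : HexTwo σ x} {k : ZMod 12} {s : E} {hs : Ok σ k s} {y : G} :
    y ∈ line h k s hs ↔ ∃ t, σ t = t ∧ y = x k (t * s) := Iff.rfl

theorem self_mem_line {h : HexTwo σ x} {k : ZMod 12} {s : E} {hs : Ok σ k s} : x k s ∈ line h k s hs :=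
  ⟨1, map_one σ, by rw [one_mul]⟩

theorem U_le_P {u : G} (hu : u ∈ UU σ x) : u ∈ gen σ x (arc 1 7) :=
  gen_mono (S := arc 1 6) (T := arc 1 7) (arc_mono (by norm_num)) hu

variable (h : HexTwo σ x)
include h

/-- independence modulo the next level -/
theorem eq_zero_of_mem {j : ℕ} {k : ZMod 12} (hk : Tp j k) {s : E} (hs : Ok σ k s) (hm : x k s ∈ gen σ x (Lv (j + 1))) :
    s = 0 := by
  rcases j with _ | _ | _ | _ | _ | j
  · rcases hk with rfl | rfl
    · refine h.mem_first_eq_zero (k := 1) hs (gen_mono ?_ hm)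
      intro l hl
      have : ∀ l : ZMod 12, (l - 2).val < 4 → (l - (1 + 1)).val < 5 := by decide
      exact this l hl
    · refine h.mem_last_eq_zero (k := 6) hs (gen_mono ?_ hm)
      intro l hl
      have : ∀ l : ZMod 12, (l - 2).val < 4 → (l - (6 - 5)).val < 5 := by decide
      exact this l hl
  · have hk' : k = 5 := hk
    subst hk'
    refine h.mem_last_eq_zero (k := 5) hs (gen_mono ?_ hm)
    intro l hl
    have : ∀ l : ZMod 12, (l - 2).val < 3 → (l - (5 - 5)).val < 5 := by decide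
    exact this l hl
  · have hk' : k = 3 := hk
    subst hk'
    obtain ⟨b, d, hb, hd, e⟩ := h.mem_24.1 hm
    rw [← h.q3 s] at e
    exact (h.q_inj (map_zero σ) (map_zero σ) (map_zero σ) hb hd (map_zero σ) e).2.1
  · have hk' : k = 2 := hk
    subst hk'
    refine h.mem_first_eq_zero (k := 2) hs (gen_mono ?_ hm)
    rintro l rfl
    show ((4 : ZMod 12) - (2 + 1)).val < 5
    decide
  · have h1 : gen σ x (Lv (4 + 1)) ≤ ⊥ := gen_le fun l hl => absurd hl (Set.notMem_empty _)
    exact (h.x_eq_one hs).1 (mem_bot.1 (h1 hm))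
  · exact hk.elim

omit h in
theorem arc234 {b c d e : E} (hb : σ b = b) (hd : σ d = d) : x 2 b * x 3 c * x 4 d * x 5 e ∈ gen σ x (arc 2 4) :=
  mul_mem (mul_mem (mul_mem (x_mem_gen (show ((2 : ZMod 12) - 2).val < 4 by decide) (ok_of_fix 2 hb))
    (x_mem_gen (show ((3 : ZMod 12) - 2).val < 4 by decide) (ok_odd (by decide) c)))
    (x_mem_gen (show ((4 : ZMod 12) - 2).val < 4 by decide) (ok_of_fix 4 hd)))
    (x_mem_gen (show ((5 : ZMod 12) - 2).val < 4 by decide) (ok_odd (by decide) e))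

/-- `[U, line] ≤` next level -/
theorem fix_line {j : ℕ} {k : ZMod 12} (hk : Tp j k) {s : E} (hs : Ok σ k s) {u : G} (hu : u ∈ UU σ x) :
    u * x k s * u⁻¹ * (x k s)⁻¹ ∈ gen σ x (Lv (j + 1)) := by
  have key : ∀ {w y : G}, u * y = w * y * u → u * y * u⁻¹ * y⁻¹ = w := by
    intro w y e
    rw [e]; group
  rcases j with _ | _ | _ | _ | _ | j
  · show _ ∈ gen σ x (arc 2 4)
    rcases hk with rfl | rfl
    · obtain ⟨a, b, c, d, e, f, hb, hd, hf, rfl⟩ := h.mem_UU.1 hu
      have hx1 : x 1 s ∈ UU σ x := x_mem_gen (show ((1 : ZMod 12) - 1).val < 6 by decide) (ok_odd (by decide) s)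
      obtain ⟨a₁, B, C, D, hB, hD, e1⟩ := h.uu_conj_q hx1 (b := b) (c := c) (d := d) (e := e) (f := f) hb hd hf
      set v := q x b c d e f with hv
      set v' := q x B C D (e + f * a₁) f with hv'
      -- `v' v⁻¹ ∈ X₂X₃X₄X₅`
      have h1 : v' * v⁻¹ ∈ gen σ x (arc 2 4) := by
        have e2 : v' * v⁻¹ = (x 2 B * x 3 C * x 4 D * x 5 (e + f * a₁)) * (x 2 b * x 3 c * x 4 d * x 5 e)⁻¹ := by
          rw [hv, hv']; unfold q; group
        rw [e2]
        exact mul_mem (arc234 hB hD) (inv_mem (arc234 hb hd))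
      have h2 : x 1 a * (v * v'⁻¹) * (x 1 a)⁻¹ ∈ gen σ x (arc 2 4) := by
        have e3 : v * v'⁻¹ = (v' * v⁻¹)⁻¹ := by group
        rw [e3]
        exact h.conj_first (k := 1) (n := 4) (by norm_num) (ok_odd (by decide) a) (inv_mem h1)
      have hc : x 1 a * x 1 s = x 1 s * x 1 a := (h.x_comm_same (ok_odd (by decide) a) (ok_odd (by decide) s)).eq
      have e4 : uu x a b c d e f * x 1 s * (uu x a b c d e f)⁻¹ * (x 1 s)⁻¹ = x 1 a * (v * v'⁻¹) * (x 1 a)⁻¹ := by
        have e5 : x 1 s * v * (x 1 s)⁻¹ = v' := by rw [e1]; group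
        unfold uu
        rw [← hv]
        calc x 1 a * v * x 1 s * (x 1 a * v)⁻¹ * (x 1 s)⁻¹
            = x 1 a * v * x 1 s * v⁻¹ * (x 1 s * x 1 a)⁻¹ := by group
          _ = x 1 a * v * x 1 s * v⁻¹ * (x 1 a * x 1 s)⁻¹ := by rw [hc]
          _ = x 1 a * (v * (x 1 s * v * (x 1 s)⁻¹)⁻¹) * (x 1 a)⁻¹ := by group
          _ = _ := by rw [e5]
      rw [e4]
      exact h2
    · have hs' : σ s = s := hs (by decide)
      obtain ⟨a₁, B, C, D, hB, hD, e1⟩ := h.uu_conj_q hu (b := 0) (c := 0) (d := 0) (e := 0) (f := s) (map_zero σ)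
        (map_zero σ) hs'
      rw [h.q6] at e1
      have e2 := key (w := x 2 B * x 3 C * x 4 D * x 5 (0 + s * a₁)) (y := x 6 s) (by rw [e1]; unfold q; group)
      rw [e2]
      exact arc234 hB hD
  · show _ ∈ gen σ x (arc 2 3)
    have hk' : k = 5 := hk
    subst hk'
    obtain ⟨a₁, B, C, D, hB, hD, e1⟩ := h.uu_conj_q hu (b := 0) (c := 0) (d := 0) (e := s) (f := 0) (map_zero σ)
      (map_zero σ) (map_zero σ)
    rw [h.q5, zero_mul, add_zero] at e1
    have e2 := key (w := x 2 B * x 3 C * x 4 D) (y := x 5 s) (by rw [e1]; unfold q; rw [h.x_zero]; group)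
    rw [e2]
    exact mul_mem (mul_mem (x_mem_gen (show ((2 : ZMod 12) - 2).val < 3 by decide) (ok_of_fix 2 hB))
      (x_mem_gen (show ((3 : ZMod 12) - 2).val < 3 by decide) (ok_odd (by decide) C)))
      (x_mem_gen (show ((4 : ZMod 12) - 2).val < 3 by decide) (ok_of_fix 4 hD))
  · show _ ∈ gen σ x {2, 4}
    have hk' : k = 3 := hk
    subst hk'
    obtain ⟨a, b, c, d, e, f, hb, hd, hf, rfl⟩ := h.mem_UU.1 hu
    have e1 := h.uu_x3 (a := a) (b := b) (c := c) (d := d) (e := e) (f := f) hb hd hf s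
    rw [h.q_234] at e1
    have hd4 := h.s34 s (t := trc σ s e) (h.fix_trc _ _)
    have e2 := key (w := x 2 (trc σ a s) * x 4 (trc σ s e)) (y := x 3 s) (by
      rw [e1]
      calc x 2 (trc σ a s) * x 3 s * x 4 (trc σ s e) * uu x a b c d e f
          = x 2 (trc σ a s) * (x 3 s * x 4 (trc σ s e)) * uu x a b c d e f := by group
        _ = _ := by rw [hd4]; group)
    rw [e2]
    exact mul_mem (x_mem_gen (Or.inl rfl) (ok_of_fix 2 (h.fix_trc _ _)))
      (x_mem_gen (Or.inr rfl) (ok_of_fix 4 (h.fix_trc _ _)))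
  · show _ ∈ gen σ x {4}
    have hk' : k = 2 := hk
    subst hk'
    have hs' : σ s = s := hs (by decide)
    obtain ⟨a, b, c, d, e, f, hb, hd, hf, rfl⟩ := h.mem_UU.1 hu
    have e1 := h.uu_q234 (a := a) (b := b) (c := c) (d := d) (e := e) (f := f) (B := s) (C := 0) (D := 0) hb hd hf hs'
      (map_zero σ)
    rw [h.q2, trc_zero_right, trc_zero_left, add_zero, add_zero, zero_add, h.q_234, h.x_zero, mul_one] at e1
    have hd4 := h.s24 (t := s) (u := s * f) hs' (by rw [map_mul, hs', hf])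
    have e2 := key (w := x 4 (s * f)) (y := x 2 s) (by rw [e1, hd4])
    rw [e2]
    exact x_mem_gen (Set.mem_singleton _) (ok_of_fix 4 (by rw [map_mul, hs', hf]))
  · have hk' : k = 4 := hk
    subst hk'
    have h1 : u ∈ gen σ x (arc 1 7) := U_le_P hu
    have h2 := Cfsg.Agent.HexStart.X4_comm h (z := x 4 s) (p := u) (x_mem_gen (Set.mem_singleton _) hs) h1
    rw [h2]
    have e3 : x 4 s * u * u⁻¹ * (x 4 s)⁻¹ = 1 := by group
    rw [e3]
    exact one_mem _
  · exact hk.elim

/-! ### `star` -/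

theorem eq_fix_mul {a e : E} (ha : a ≠ 0) (h0 : crs σ a e = 0) : ∃ r, σ r = r ∧ e = r * a := by
  refine ⟨e / a, ?_, by field_simp⟩
  have h1 : σ a ≠ 0 := (map_ne_zero σ).2 ha
  have h2 : σ (σ a) ≠ 0 := (map_ne_zero σ).2 h1
  have h3 : σ (σ e) / σ (σ a) = σ e / σ a := by
    rw [div_eq_div_iff h2 h1]
    unfold crs at h0
    have := h.add_self (σ (σ a) * σ e)
    linear_combination h0 - this
  -- `r = e / a`: `σ² r = σ r`
  have h4 : σ (σ (e / a)) = σ (e / a) := by rw [map_div₀, map_div₀, h3]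
  exact σ.injective h4

theorem trc_shp_self' (a : E) : trc σ (shp σ a) a = nrm σ a := by
  unfold trc shp nrm
  simp only [map_mul, h.cube]
  linear_combination (a * σ a * σ (σ a)) * h.two

/-- if `crs a e = 0`, `trc (shp a) e = 0`, `a ≠ 0`, then `e = 0` -/
theorem eq_zero_of_crs {a e : E} (ha : a ≠ 0) (h0 : crs σ a e = 0) (h1 : trc σ (shp σ a) e = 0) : e = 0 := by
  obtain ⟨r, hr, rfl⟩ := eq_fix_mul h ha h0
  rw [trc_smul_right hr, trc_shp_self' h] at h1
  rcases mul_eq_zero.1 h1 with h2 | h2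
  · rw [h2, zero_mul]
  · exact absurd h2 (nrm_ne_zero ha)

theorem star {j : ℕ} {k : ZMod 12} (hk : Tp j k) {s : E} (hs : Ok σ k s) (hs0 : s ≠ 0) {u : G} (hu : u ∈ UU σ x)
    (hc : u * x k s = x k s * u) {t : E} (ht : σ t = t) : u * x k (t * s) = x k (t * s) * u := by
  obtain ⟨a, b, c, d, e, f, hb, hd, hf, rfl⟩ := h.mem_UU.1 hu
  have z := map_zero σ
  -- the coordinates of the root elements
  have r1 : ∀ y : E, x 1 y = uu x y 0 0 0 0 0 := fun y => (h.u1 y).symm
  have r2 : ∀ y : E, x 2 y = uu x 0 y 0 0 0 0 := fun y => by rw [h.uq, h.q2]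
  have r3 : ∀ y : E, x 3 y = uu x 0 0 y 0 0 0 := fun y => by rw [h.uq, h.q3]
  have r5 : ∀ y : E, x 5 y = uu x 0 0 0 0 y 0 := fun y => by rw [h.uq, h.q5]
  have r6 : ∀ y : E, x 6 y = uu x 0 0 0 0 0 y := fun y => by rw [h.uq, h.q6]
  have shz : shp σ (0 : E) = 0 := shp_zero
  have nz : nrm σ (0 : E) = 0 := nrm_zero
  rcases j with _ | _ | _ | _ | _ | j
  · rcases hk with rfl | rfl
    · -- `k = 1`
      rw [r1, h.uu_mul hb hd hf z z z, h.uu_mul z z z hb hd hf] at hc
      simp only [trc_zero_left, trc_zero_right, crs_zero_left, crs_zero_right, shz, nz, zero_mul, mul_zero, add_zero,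
        zero_add, ne_eq, OfNat.ofNat_ne_zero, not_false_eq_true, zero_pow] at hc
      obtain ⟨-, e1, e2, e3, e4, -⟩ := h.uu_inj (by
        simp only [map_add, map_mul, h.fix_trc, h.fix_nrm, hb, hf]) (by
        simp only [map_add, map_mul, map_pow, h.fix_trc, h.fix_nrm, hd, hf]) hf hb hd hf hc
      have hf0 : f = 0 := by
        have : f * s = 0 := by linear_combination e4
        exact (mul_eq_zero.1 this).resolve_right hs0
      subst hf0
      simp only [zero_mul, add_zero, ne_eq, OfNat.ofNat_ne_zero, not_false_eq_true, zero_pow] at e1 e2 e3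
      have hcr : crs σ s e = 0 := by linear_combination e2
      obtain ⟨r, hr, hre⟩ := eq_fix_mul h hs0 hcr
      have he0 : e = 0 := by
        have h5 : trc σ s (shp σ e) = 0 := by linear_combination e3
        have h6 : shp σ e = r ^ 2 * shp σ s := by
          rw [hre]; unfold shp; simp only [map_mul, hr]; ring
        rw [h6, trc_smul_right (by rw [map_pow, hr]), trc_comm, trc_shp_self' h] at h5
        rcases mul_eq_zero.1 h5 with h7 | h7
        · rw [hre, pow_eq_zero_iff (by norm_num) |>.1 h7, zero_mul]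
        · exact absurd h7 (nrm_ne_zero hs0)
      subst he0
      have hT : trc σ s c = 0 := by
        rw [trc_zero_right] at e1
        linear_combination e1
      rw [r1, h.uu_mul hb hd z z z z, h.uu_mul z z z hb hd z]
      simp only [trc_zero_left, trc_zero_right, crs_zero_left, crs_zero_right, shz, nz, zero_mul, mul_zero, add_zero,
        zero_add, ne_eq, OfNat.ofNat_ne_zero, not_false_eq_true, zero_pow]
      rw [trc_smul_left ht, hT, mul_zero, add_zero, add_comm a]
    · -- `k = 6`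
      have hs' : σ s = s := hs (by decide)
      rw [r6, h.uu_mul hb hd hf z z hs', h.uu_mul z z hs' hb hd hf] at hc
      simp only [trc_zero_left, trc_zero_right, crs_zero_left, crs_zero_right, shz, nz, zero_mul, mul_zero, add_zero,
        zero_add, ne_eq, OfNat.ofNat_ne_zero, not_false_eq_true, zero_pow] at hc
      obtain ⟨-, e1, e2, e3, e4, -⟩ := h.uu_inj hb hd (by rw [map_add, hf, hs']) (by
        simp only [map_add, map_mul, h.fix_trc, h.fix_nrm, hb, hs']) (by
        simp only [map_add, map_mul, map_pow, h.fix_trc, h.fix_nrm, hb, hd, hs']) (by rw [map_add, hf, hs']) hc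
      have ha0 : a = 0 := by
        have : s * a = 0 := by linear_combination -e4
        exact (mul_eq_zero.1 this).resolve_left hs0
      subst ha0
      simp only [nz, shz, mul_zero, add_zero, zero_add, trc_zero_right] at e3
      have hb0 : b = 0 := by
        have : b * s = 0 := by linear_combination -e3
        exact (mul_eq_zero.1 this).resolve_right hs0
      subst hb0
      rw [r6, h.uu_mul z hd hf z z (by rw [map_mul, ht, hs']), h.uu_mul z z (by rw [map_mul, ht, hs']) z hd hf]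
      simp only [trc_zero_left, trc_zero_right, crs_zero_left, crs_zero_right, shz, nz, zero_mul, mul_zero, add_zero,
        zero_add]
      rw [add_comm f]
  · -- `k = 5`
    have hk' : k = 5 := hk
    subst hk'
    rw [r5, h.uu_mul hb hd hf z z z, h.uu_mul z z z hb hd hf] at hc
    simp only [trc_zero_left, trc_zero_right, crs_zero_left, crs_zero_right, shz, nz, zero_mul, mul_zero, add_zero,
      zero_add, ne_eq, OfNat.ofNat_ne_zero, not_false_eq_true, zero_pow] at hc
    obtain ⟨-, e1, e2, e3, -, -⟩ := h.uu_inj hb hd hf (by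
      simp only [map_add, h.fix_trc, hb]) (by
      simp only [map_add, h.fix_trc, hd]) hf hc
    have h1 : trc σ (shp σ a) s = 0 := by linear_combination -e1
    have h2 : crs σ a s = 0 := by linear_combination -e2
    have ha0 : a = 0 := by
      by_contra ha
      exact hs0 (eq_zero_of_crs h ha h2 h1)
    subst ha0
    have h3 : trc σ c s = 0 := by
      rw [trc_zero_left] at e3
      linear_combination -e3
    rw [r5, h.uu_mul hb hd hf z z z, h.uu_mul z z z hb hd hf]
    simp only [trc_zero_left, trc_zero_right, crs_zero_left, crs_zero_right, shz, nz, zero_mul, mul_zero, add_zero,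
      zero_add, ne_eq, OfNat.ofNat_ne_zero, not_false_eq_true, zero_pow]
    rw [trc_smul_right ht, h3, mul_zero, add_zero, add_comm e]
  · -- `k = 3`
    have hk' : k = 3 := hk
    subst hk'
    rw [r3, h.uu_mul hb hd hf z z z, h.uu_mul z z z hb hd hf] at hc
    simp only [trc_zero_left, trc_zero_right, crs_zero_left, crs_zero_right, shz, nz, zero_mul, mul_zero, add_zero,
      zero_add, ne_eq, OfNat.ofNat_ne_zero, not_false_eq_true, zero_pow] at hc
    obtain ⟨-, e1, -, e3, -, -⟩ := h.uu_inj hb (by simp only [map_add, h.fix_trc, hd]) hf (by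
      simp only [map_add, h.fix_trc, hb]) hd hf hc
    have h1 : trc σ a s = 0 := by linear_combination -e1
    have h3 : trc σ s e = 0 := by linear_combination e3
    rw [r3, h.uu_mul hb hd hf z z z, h.uu_mul z z z hb hd hf]
    simp only [trc_zero_left, trc_zero_right, crs_zero_left, crs_zero_right, shz, nz, zero_mul, mul_zero, add_zero,
      zero_add, ne_eq, OfNat.ofNat_ne_zero, not_false_eq_true, zero_pow]
    rw [trc_smul_right ht, h1, trc_smul_left ht, h3, mul_zero, add_zero, zero_add, add_comm c]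
  · -- `k = 2`
    have hk' : k = 2 := hk
    subst hk'
    have hs' : σ s = s := hs (by decide)
    rw [r2, h.uu_mul hb hd hf hs' z z, h.uu_mul hs' z z hb hd hf] at hc
    simp only [trc_zero_left, trc_zero_right, crs_zero_left, crs_zero_right, shz, nz, zero_mul, mul_zero, add_zero,
      zero_add, ne_eq, OfNat.ofNat_ne_zero, not_false_eq_true, zero_pow] at hc
    obtain ⟨-, -, -, e3, -, -⟩ := h.uu_inj (by rw [map_add, hb, hs']) (by
      simp only [map_add, map_mul, hd, hs', hf]) hf (by rw [map_add, hb, hs']) hd hf hc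
    have hf0 : f = 0 := by
      have : s * f = 0 := by linear_combination e3
      exact (mul_eq_zero.1 this).resolve_left hs0
    subst hf0
    rw [r2, h.uu_mul hb hd z (by rw [map_mul, ht, hs']) z z, h.uu_mul (by rw [map_mul, ht, hs']) z z hb hd z]
    simp only [trc_zero_left, trc_zero_right, crs_zero_left, crs_zero_right, shz, nz, zero_mul, mul_zero, add_zero,
      zero_add, ne_eq, OfNat.ofNat_ne_zero, not_false_eq_true, zero_pow]
    rw [add_comm b]
  · have hk' : k = 4 := hk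
    subst hk'
    exact Cfsg.Agent.HexStart.X4_comm h (z := x 4 (t * s)) (p := uu x a b c d e f)
      (x_mem_gen (Set.mem_singleton _) ((ok_of_fix 4 ht).mul hs)) (U_le_P hu)
  · exact hk.elim

end Cfsg.Agent.OddHalf.D4.HexFree

end

-- merged: Cfsg.Agent.OddHalf.D4.HexFree.Aut
section

/-!
# `G₂(q)`, `³D₄(q)`: `AFacts`

`X = AA σ x`, `T = UU σ x`. `Fd e g τ` : the automorphism `e` of `X` is `x_k(a) ↦ x_k(τ a)^g`.
* `inner_of` : an element of a 2-subgroup of `Aut X` normalising `T` with `τ = 1` on the fixed field of `σ` is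
  conjugation by an element of `T`;
* **`aFacts`** : `AFacts T`, if the fixed field of `σ` has order 4 or at least 8.
-/

set_option autoImplicit false
set_option maxHeartbeats 400000

namespace Cfsg.Agent.OddHalf.D4.HexFree

open Subgroup Cfsg.Agent.StdRank2.Hex Cfsg.Agent.StdRank2.Hex.HexTwo Cfsg.Agent.SplitTwo
open Cfsg.Agent.OddHalf.D4.Free Cfsg.Agent.HexStart Cfsg.Agent.OddHalf.DblR.HexK
open scoped commutatorElement

variable {E : Type*} [Field E] {σ : E ≃+* E} {X : Type*} [Group X] {x : ZMod 12 → E → X}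

/-- `e` is the product of the field automorphism `τ` and the inner automorphism `g` -/
def Fd (σ : E ≃+* E) (x : ZMod 12 → E → X) (e : MulAut X) (g : X) (τ : E ≃+* E) : Prop :=
  ∀ k a, Ok σ k a → e (x k a) = g * x k (τ a) * g⁻¹

theorem Fd.one : Fd σ x 1 1 1 := fun k a _ => by
  rw [MulAut.one_apply, one_mul, inv_one, mul_one]
  rfl

theorem Fd.mul [Finite E] {e e' : MulAut X} {g g' : X} {τ τ' : E ≃+* E} (h1 : Fd σ x e g τ) (h2 : Fd σ x e' g' τ') :
    Fd σ x (e * e') (e g' * g) (τ * τ') := fun k a ha => by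
  have hτ' : Ok σ k (τ' a) := ok_map (fun b => field_comm τ' σ b) ha
  rw [MulAut.mul_apply, h2 k a ha, map_mul, map_mul, map_inv, h1 k _ hτ', RingAut.mul_apply]
  group

theorem Fd.conj {e : MulAut X} {g : X} {τ : E ≃+* E} (h1 : Fd σ x e g τ) (m : X) :
    Fd σ x (MulAut.conj m * e) (m * g) τ := fun k a ha => by
  rw [MulAut.mul_apply, MulAut.conj_apply, h1 k a ha]
  group

theorem Fd.conj' {e : MulAut X} {g : X} {τ : E ≃+* E} (h1 : Fd σ x e g τ) (m : X) :
    Fd σ x (e * MulAut.conj m) (e m * g) τ := fun k a ha => by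
  rw [MulAut.mul_apply, MulAut.conj_apply, map_mul, map_mul, map_inv, h1 k a ha]
  group

variable (h : HexTwo σ x)
include h

theorem exists_fd [Finite E] [Finite X] (htop : AA σ x = ⊤) (hN : NotTwo σ) (e : MulAut X) :
    ∃ g τ, Fd σ x e g τ := by
  have h1 : HexTwo σ (fun k a => e (x k a)) := h.map e.toMonoidHom e.injective (fun _ _ _ => rfl)
  have h2 : AA σ (fun k a => e (x k a)) = AA σ x := by
    have h3 : AA σ (fun k a => e (x k a)) = (AA σ x).map e.toMonoidHom :=
      map_gen e.toMonoidHom (fun _ _ _ => rfl) Set.univ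
    rw [h3, htop, ← MonoidHom.range_eq_map]
    exact MonoidHom.range_eq_top.mpr e.surjective
  obtain ⟨g, -, τ, hτ⟩ := exists_conj h h1 hN h2
  exact ⟨g, τ, hτ⟩

/-- the field part is unique -/
theorem Fd.unique [Finite E] (htop : AA σ x = ⊤) {e : MulAut X} {g g₂ : X} {τ τ₂ : E ≃+* E} (h1 : Fd σ x e g τ)
    (h2 : Fd σ x e g₂ τ₂) : τ = τ₂ := by
  set m := g₂⁻¹ * g with hm
  have hA : ∀ y : X, y ∈ AA σ x := fun y => by rw [htop]; exact mem_top _
  have key : ∀ k b, Ok σ k b → m * x k (τ (τ₂.symm b)) * m⁻¹ = x k b := by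
    intro k b hb
    have hb' : Ok σ k (τ₂.symm b) := ok_map (fun c => field_comm τ₂.symm σ c) hb
    have e1 := (h1 k _ hb').symm.trans (h2 k _ hb')
    rw [RingEquiv.apply_symm_apply] at e1
    calc m * x k (τ (τ₂.symm b)) * m⁻¹ = g₂⁻¹ * (g * x k (τ (τ₂.symm b)) * g⁻¹) * g₂ := by rw [hm]; group
      _ = x k b := by rw [e1]; group
  have h3 : ∀ a, m * x 3 ((τ₂.symm.trans τ) a) * m⁻¹ = x 3 a := fun a => key 3 a (ok_odd (by decide) a)
  have h4 : m * x 4 1 * m⁻¹ = x 4 1 := by
    have := key 4 1 (ok_one σ 4)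
    rwa [map_one, map_one] at this
  have hU : m ∈ UU σ x := h.mem_U_of (hA m) h4 (comm_x3_one h h3)
  have h5 : ∀ a, (τ₂.symm.trans τ) a = a := field_of_x3 h hU h3
  ext a
  have := h5 (τ₂ a)
  rw [RingEquiv.trans_apply, RingEquiv.symm_apply_apply] at this
  exact this

theorem fd_pow [Finite E] {e : MulAut X} {g : X} {τ : E ≃+* E} (h1 : Fd σ x e g τ) (n : ℕ) :
    ∃ g', Fd σ x (e ^ n) g' (τ ^ n) := by
  induction n with
  | zero => exact ⟨1, by rw [pow_zero, pow_zero]; exact Fd.one⟩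
  | succ n ih =>
    obtain ⟨g', h2⟩ := ih
    exact ⟨_, by rw [pow_succ, pow_succ]; exact h2.mul h1⟩

section

variable [Finite E] [Finite X] (htop : AA σ x = ⊤) (hN : NotTwo σ) (T : Sylow 2 X) (hT : (T : Subgroup X) = UU σ x)

include hT in
theorem inZ_iff' {z : X} : InZ T z ↔ z ∈ gen σ x {4} := by
  have hTU : ∀ y, y ∈ T ↔ y ∈ UU σ x := fun y => by rw [← hT]; exact Iff.rfl
  constructor
  · rintro ⟨h1, h2⟩
    exact mem_center_U h ((hTU z).1 h1) fun u hu => (h2 u ((hTU u).2 hu)).symm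
  · intro hz
    refine ⟨(hTU z).2 (gen_mono ?_ hz), fun t ht => X4_comm h hz (U_le_P ((hTU t).1 ht))⟩
    rintro l rfl
    show ((4 : ZMod 12) - 1).val < 6
    decide

include hT in
theorem fixZ_iff' {e : MulAut X} : FixZ T e ↔ ∀ s, σ s = s → e (x 4 s) = x 4 s := by
  constructor
  · intro h1 s hs
    exact h1 _ ((inZ_iff' h T hT).2 (x_mem_gen (Set.mem_singleton _) (ok_of_fix 4 hs)))
  · intro h1 z hz
    obtain ⟨s, hs, rfl⟩ := h.mem_gen_singleton.1 ((inZ_iff' h T hT).1 hz)
    exact h1 s (hs (by decide))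

variable {T} {A : Subgroup (MulAut X)} (hA : GoodA T A)

include htop hN hT hA in
/-- the form of the elements of a good 2-group -/
theorem good_form {e : MulAut X} (he : e ∈ A) : ∃ u ∈ UU σ x, ∃ t ∈ h.H, ∃ τ, Fd σ x e (u * t) τ := by
  obtain ⟨g, τ, hf⟩ := exists_fd h htop hN e
  have hTU : ∀ y, y ∈ T ↔ y ∈ UU σ x := fun y => by rw [← hT]; exact Iff.rfl
  have hgU : ∀ u ∈ UU σ x, g * u * g⁻¹ ∈ UU σ x := by
    intro u hu
    refine conj_gen (S := arc 1 6) (T := arc 1 6) (fun k hk a ha => ?_) hu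
    have ha' : Ok σ k (τ.symm a) := ok_map (fun c => field_comm τ.symm σ c) ha
    have e1 := hf k _ ha'
    rw [RingEquiv.apply_symm_apply] at e1
    rw [← e1]
    exact (hTU _).1 (hA.norm e he _ ((hTU _).2 (x_mem_gen hk ha')))
  obtain ⟨u, hu, t, ht, e1⟩ := h.mem_normalizer_U (g := g) (by rw [htop]; exact mem_top _) hgU
  exact ⟨u, hu, t, ht, τ, by rw [← e1]; exact hf⟩

include htop in
/-- 2-elements have field part of 2-power order -/
theorem fd_two {e : MulAut X} {g : X} {τ : E ≃+* E} (hf : Fd σ x e g τ) {n : ℕ} (hn : e ^ 2 ^ n = 1) :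
    τ ^ 2 ^ n = 1 := by
  obtain ⟨g', h1⟩ := fd_pow h hf (2 ^ n)
  rw [hn] at h1
  exact h1.unique h htop Fd.one

omit htop [Finite X] in
/-- a 2-power order field automorphism trivial on `Fix σ` is trivial -/
theorem field_trivial {τ : E ≃+* E} {n : ℕ} (hn : τ ^ 2 ^ n = 1) (hτ : ∀ s, σ s = s → τ s = s) : τ = 1 := by
  by_contra hne
  -- an involution
  obtain ⟨j, hj1, hj2⟩ : ∃ j : ℕ, τ ^ 2 ^ j ≠ 1 ∧ τ ^ 2 ^ (j + 1) = 1 := by
    by_contra hcon
    push Not at hcon
    have key : ∀ j : ℕ, τ ^ 2 ^ j ≠ 1 := by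
      intro j
      induction j with
      | zero => simpa using hne
      | succ j ih => exact hcon j ih
    exact key n hn
  set ρ := τ ^ 2 ^ j with hρ
  have hρ2 : ρ * ρ = 1 := by
    rw [hρ, ← pow_two, ← pow_mul, ← pow_succ]; exact hj2
  have hfix : ∀ m : ℕ, ∀ s, σ s = s → (τ ^ m) s = s := by
    intro m
    induction m with
    | zero => intro s _; rw [pow_zero]; rfl
    | succ m ih => intro s hs; rw [pow_succ, RingAut.mul_apply, hτ s hs, ih s hs]
  have hne' : ∃ a, ρ a ≠ a := by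
    by_contra hcon
    push Not at hcon
    exact hj1 (RingEquiv.ext hcon)
  obtain ⟨b, hb, e1⟩ := exists_trace_one h (τ := ρ) (fun a => field_comm ρ σ a) (fun a => by
    have := congrArg (fun f : E ≃+* E => f a) hρ2
    exact this) hne'
  rw [hρ, hfix _ b hb, h.add_self] at e1
  exact zero_ne_one e1

include htop hN hT hA in
/-- elements without field part are inner -/
theorem inner_of {e : MulAut X} (he : e ∈ A) {g : X} {τ : E ≃+* E} (hf : Fd σ x e g τ)
    (hτ : ∀ s, σ s = s → τ s = s) : ∃ u ∈ UU σ x, e = MulAut.conj u := by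
  have hTU : ∀ y, y ∈ T ↔ y ∈ UU σ x := fun y => by rw [← hT]; exact Iff.rfl
  obtain ⟨n, hn⟩ := hA.two ⟨e, he⟩
  have hn' : e ^ 2 ^ n = 1 := congrArg Subtype.val hn
  have h1 : τ = 1 := field_trivial h (fd_two h htop hf hn') hτ
  obtain ⟨u, hu, t, ht, τ', hf'⟩ := good_form h htop hN hT hA he
  have h2 : τ' = 1 := (hf'.unique h htop hf).trans h1
  subst h2
  -- `e = conj (u t)`
  have h3 : e = MulAut.conj (u * t) := by
    have h4 : AA σ x ≤ MonoidHom.eqLocus (e : X ≃* X).toMonoidHom (MulAut.conj (u * t) : X ≃* X).toMonoidHom :=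
      gen_le fun k _ a ha => by
        change e (x k a) = MulAut.conj (u * t) (x k a)
        rw [hf' k a ha, MulAut.conj_apply]
        rfl
    ext y
    exact h4 (by rw [htop]; exact mem_top _)
  -- `conj t ∈ A`
  have h5 : MulAut.conj t ∈ A := by
    have e1 : MulAut.conj t = (MulAut.conj u)⁻¹ * e := by rw [h3, map_mul]; group
    rw [e1]
    exact A.mul_mem (A.inv_mem (hA.inn u ((hTU u).2 hu))) he
  obtain ⟨m, hm⟩ := hA.two ⟨_, h5⟩
  have hm' : (MulAut.conj t : MulAut X) ^ 2 ^ m = 1 := congrArg Subtype.val hm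
  rw [← map_pow] at hm'
  have h6 : t ^ 2 ^ m = 1 := by
    refine center_eq_one h (by rw [htop]; exact mem_top _) fun k a _ => ?_
    have := congrArg (fun f : MulAut X => f (x k a)) hm'
    rw [MulAut.one_apply] at this
    exact this
  have h7 : t = 1 := h.H_two ht h6
  exact ⟨u, hu, by rw [h3, h7, mul_one]⟩

include htop hN hT hA in
/-- the action on `X_k`, `k = 2, 4` -/
theorem act_long' {e : MulAut X} (he : e ∈ A) {g : X} {τ : E ≃+* E} (hf : Fd σ x e g τ) :
    ∃ u ∈ UU σ x, ∃ c₂ c₄ : E, c₂ ≠ 0 ∧ c₄ ≠ 0 ∧ σ c₂ = c₂ ∧ σ c₄ = c₄ ∧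
      (∀ s, σ s = s → e (x 2 s) = u * x 2 (c₂ * τ s) * u⁻¹) ∧ ∀ s, σ s = s → e (x 4 s) = x 4 (c₄ * τ s) := by
  obtain ⟨u, hu, t, ht, τ', hf'⟩ := good_form h htop hN hT hA he
  obtain rfl : τ' = τ := hf'.unique h htop hf
  obtain ⟨c₂, h20, hc₂, hc₂'⟩ := h.H_diag ht 2
  obtain ⟨c₄, h40, hc₄, hc₄'⟩ := h.H_diag ht 4
  have hτ : ∀ s, σ s = s → σ (τ' s) = τ' s := fun s hs => by rw [field_comm, hs]
  refine ⟨u, hu, c₂, c₄, h20, h40, hc₂ (by decide), hc₄ (by decide), fun s hs => ?_, fun s hs => ?_⟩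
  · rw [hf' 2 s (ok_of_fix 2 hs), mul_inv_rev]
    calc u * t * x 2 (τ' s) * (t⁻¹ * u⁻¹) = u * (t * x 2 (τ' s) * t⁻¹) * u⁻¹ := by group
      _ = _ := by rw [hc₂' _ (ok_of_fix 2 (hτ s hs))]
  · rw [hf' 4 s (ok_of_fix 4 hs), mul_inv_rev]
    have h1 : σ (c₄ * τ' s) = c₄ * τ' s := by rw [map_mul, hc₄ (by decide), hτ s hs]
    have h2 := X4_comm h (z := x 4 (c₄ * τ' s)) (p := u) (x_mem_gen (Set.mem_singleton _) (ok_of_fix 4 h1)) (U_le_P hu)
    calc u * t * x 4 (τ' s) * (t⁻¹ * u⁻¹) = u * (t * x 4 (τ' s) * t⁻¹) * u⁻¹ := by group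
      _ = _ := by rw [hc₄' _ (ok_of_fix 4 (hτ s hs)), h2]; group

include htop hN hT hA in
/-- `FixZ` -/
theorem fixZ_iff_field {e : MulAut X} (he : e ∈ A) {g : X} {τ : E ≃+* E} (hf : Fd σ x e g τ) :
    FixZ T e ↔ ∀ s, σ s = s → τ s = s := by
  rw [fixZ_iff' h T hT]
  constructor
  · intro h1 s hs
    obtain ⟨u, hu, c₂, c₄, -, h40, -, hc4, -, h4⟩ := act_long' h htop hN hT hA he hf
    have hτ : ∀ s, σ s = s → σ (τ s) = τ s := fun s hs => by rw [field_comm, hs]
    have key : ∀ s, σ s = s → c₄ * τ s = s := fun s hs =>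
      (h.x_inj (ok_of_fix 4 (by rw [map_mul, hc4, hτ s hs])) (ok_of_fix 4 hs)).1 ((h4 s hs).symm.trans (h1 s hs))
    have hc : c₄ = 1 := by
      have := key 1 (map_one σ)
      rwa [map_one, mul_one] at this
    have := key s hs
    rwa [hc, one_mul] at this
  · intro h1 s hs
    obtain ⟨u, hu, rfl⟩ := inner_of h htop hN hT hA he hf h1
    have h2 := X4_comm h (z := x 4 s) (p := u) (x_mem_gen (Set.mem_singleton _) (ok_of_fix 4 hs)) (U_le_P hu)
    rw [MulAut.conj_apply, h2, mul_inv_cancel_right]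

end

end Cfsg.Agent.OddHalf.D4.HexFree

end

-- merged: Cfsg.Agent.OddHalf.D4.HexFree.Facts
section

/-!
# `G₂(q)`, `³D₄(q)`: `AFacts`

* **`aFacts`** : `AFacts T`, if the fixed field of `σ` has order 4 or at least 8.
-/

set_option autoImplicit false
set_option maxHeartbeats 400000

namespace Cfsg.Agent.OddHalf.D4.HexFree

open Subgroup Cfsg.Agent.StdRank2.Hex Cfsg.Agent.StdRank2.Hex.HexTwo Cfsg.Agent.SplitTwo
open Cfsg.Agent.OddHalf.D4.Free Cfsg.Agent.HexStart Cfsg.Agent.OddHalf.DblR.HexK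
open scoped commutatorElement

variable {E : Type*} [Field E] {σ : E ≃+* E} {X : Type*} [Group X] {x : ZMod 12 → E → X}

/-- an element of the fixed field outside a set of four elements -/
theorem exists_not_mem_four [Finite E] (h8 : 8 ≤ Nat.card {a : E // σ a = a}) {p q r s : E} (hp : σ p = p)
    (hq : σ q = q) (hr : σ r = r) (hs : σ s = s) : ∃ b, σ b = b ∧ b ≠ p ∧ b ≠ q ∧ b ≠ r ∧ b ≠ s := by
  classical
  have : Fintype {a : E // σ a = a} := Fintype.ofFinite _
  rw [Nat.card_eq_fintype_card] at h8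
  by_contra hcon
  push Not at hcon
  have h1 : (Finset.univ : Finset {a : E // σ a = a}) ⊆ {⟨p, hp⟩, ⟨q, hq⟩, ⟨r, hr⟩, ⟨s, hs⟩} := by
    rintro ⟨b, hb⟩ -
    simp only [Finset.mem_insert, Finset.mem_singleton, Subtype.mk.injEq]
    by_cases h1 : b = p
    · exact Or.inl h1
    by_cases h2 : b = q
    · exact Or.inr (Or.inl h2)
    by_cases h3 : b = r
    · exact Or.inr (Or.inr (Or.inl h3))
    · exact Or.inr (Or.inr (Or.inr (hcon b hb h1 h2 h3)))
  have h2 := Finset.card_le_card h1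
  rw [Finset.card_univ] at h2
  have h3 := h2.trans Finset.card_le_four
  omega

/-- two elements moved together with their sum -/
theorem exists_two_moved [Finite E] (two : (2 : E) = 0) (h8 : 8 ≤ Nat.card {a : E // σ a = a}) {ω : E}
    (hω : σ ω = ω) (hω0 : ω ≠ 0) (hω1 : ω ≠ 1) {τ : E ≃+* E} {c : E} (hmv : ∃ s, σ s = s ∧ c * τ s ≠ s) :
    ∃ a b, σ a = a ∧ σ b = b ∧ c * τ a ≠ a ∧ c * τ b ≠ b ∧ c * τ (a + b) ≠ a + b := by
  by_cases hfix : ∃ x0, σ x0 = x0 ∧ x0 ≠ 0 ∧ c * τ x0 = x0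
  · obtain ⟨x0, hx, hx0, e0⟩ := hfix
    obtain ⟨s, hs, hs1⟩ := hmv
    have hψ : ∀ y, c * τ (x0 * y) = x0 * τ y := fun y => by rw [map_mul, ← mul_assoc, e0]
    set a' := s / x0 with ha'
    have hsa : s = x0 * a' := by rw [ha']; field_simp
    have ha'f : σ a' = a' := by rw [ha', map_div₀, hs, hx]
    have ha'1 : τ a' ≠ a' := by
      intro e1
      apply hs1
      rw [hsa, hψ, e1]
    by_cases h2 : ∃ f, σ f = f ∧ τ f = f ∧ f ≠ 0 ∧ f ≠ 1
    · obtain ⟨f, hf, hf', hf0, hf1⟩ := h2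
      have hf2 : 1 + f ≠ 0 := fun e => hf1 (by linear_combination e - two)
      refine ⟨x0 * a', x0 * (f * a'), by rw [map_mul, hx, ha'f], by rw [map_mul, map_mul, hx, hf, ha'f], ?_, ?_, ?_⟩
      · rw [hψ]
        exact fun e => ha'1 (mul_left_cancel₀ hx0 e)
      · rw [hψ, map_mul, hf']
        exact fun e => ha'1 (mul_left_cancel₀ hf0 (mul_left_cancel₀ hx0 e))
      · have e1 : x0 * a' + x0 * (f * a') = x0 * ((1 + f) * a') := by ring
        rw [e1, hψ, map_mul, map_add, map_one, hf']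
        exact fun e => ha'1 (mul_left_cancel₀ hf2 (mul_left_cancel₀ hx0 e))
    · push Not at h2
      obtain ⟨b', hb', h01, h02, h03, h04⟩ := exists_not_mem_four (σ := σ) h8 (p := 0) (q := 1) (r := a') (s := a' + 1)
        (map_zero σ) (map_one σ) ha'f (by rw [map_add, ha'f, map_one])
      refine ⟨x0 * a', x0 * b', by rw [map_mul, hx, ha'f], by rw [map_mul, hx, hb'], ?_, ?_, ?_⟩
      · rw [hψ]
        exact fun e => ha'1 (mul_left_cancel₀ hx0 e)
      · rw [hψ]
        exact fun e => h02 (h2 b' hb' (mul_left_cancel₀ hx0 e) h01)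
      · rw [← mul_add, hψ]
        intro e
        have e1 := mul_left_cancel₀ hx0 e
        by_cases h5 : a' + b' = 0
        · exact h03 (by linear_combination h5 - a' * two)
        · have h6 := h2 (a' + b') (by rw [map_add, ha'f, hb']) e1 h5
          exact h04 (by linear_combination h6 - a' * two)
  · push Not at hfix
    have hw : 1 + ω ≠ 0 := fun e => hω1 (by linear_combination e - two)
    exact ⟨1, ω, map_one σ, hω, hfix 1 (map_one σ) one_ne_zero, hfix ω hω hω0,
      hfix (1 + ω) (by rw [map_add, map_one, hω]) hw⟩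

variable (h : HexTwo σ x)
include h

/-- the filtration -/
theorem fltA [Finite E] [Finite X] (htop : AA σ x = ⊤) (hN : NotTwo σ) {T : Sylow 2 X}
    (hT : (T : Subgroup X) = UU σ x) {ω : E} (hω : σ ω = ω) (hω0 : ω ≠ 0) (hω1 : ω ≠ 1)
    {A : Subgroup (MulAut X)} (hA : GoodA T A) :
    FltA T A (fun j => gen σ x (Lv j)) (fun j => {l | ∃ k, Tp j k ∧ ∃ s, ∃ hs : Ok σ k s, s ≠ 0 ∧ l = line h k s hs}) where
  zero := hT.symm
  bot := ⟨5, by
    rw [eq_bot_iff]
    exact gen_le fun l hl => absurd hl (Set.notMem_empty _)⟩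
  le := fun j => gen_mono (Lv_succ j)
  gen := by
    intro j u hu
    have h1 : gen σ x (Lv j) ≤ closure ({y | ∃ l ∈ {l | ∃ k, Tp j k ∧ ∃ s, ∃ hs : Ok σ k s, s ≠ 0 ∧ l = line h k s hs},
        y ∈ l} ∪ (gen σ x (Lv (j + 1)) : Set X)) := by
      refine gen_le fun k hk a ha => ?_
      rcases Lv_cases j hk with h2 | h2
      · exact subset_closure (Or.inr (x_mem_gen h2 ha))
      · by_cases ha0 : a = 0
        · subst ha0
          rw [h.x_zero]
          exact one_mem _
        · exact subset_closure (Or.inl ⟨_, ⟨k, h2, a, ha, ha0, rfl⟩, self_mem_line⟩)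
    exact h1 hu
  line_le := by
    rintro j _ ⟨k, hk, s, hs, -, rfl⟩ _ ⟨t, ht, rfl⟩
    exact x_mem_gen (Tp_Lv hk) ((ok_of_fix k ht).mul hs)
  sq := by
    rintro j _ ⟨k, hk, s, hs, -, rfl⟩ _ ⟨t, ht, rfl⟩
    rw [h.x_sq ((ok_of_fix k ht).mul hs)]
    exact one_mem _
  pair := by
    rintro j _ ⟨k, hk, s, hs, hs0, rfl⟩
    have hw1 : 1 + ω ≠ 0 := fun e => hω1 (by linear_combination e - h.two)
    refine ⟨x k s, self_mem_line, x k (ω * s), ⟨ω, hω, rfl⟩, ?_, ?_, ?_⟩
    · exact fun hm => hs0 (eq_zero_of_mem h hk hs hm)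
    · exact fun hm => mul_ne_zero hω0 hs0 (eq_zero_of_mem h hk ((ok_of_fix k hω).mul hs) hm)
    · rw [h.x_inv hs, ← h.add k _ _ hs ((ok_of_fix k hω).mul hs)]
      intro hm
      have h1 := eq_zero_of_mem h hk (hs.add ((ok_of_fix k hω).mul hs)) hm
      have h2 : (1 + ω) * s = 0 := by linear_combination h1
      exact mul_ne_zero hw1 hs0 h2
  star := by
    rintro j _ ⟨k, hk, s, hs, hs0, rfl⟩ y hy hyZ - _ ⟨t, ht, rfl⟩ hm hc _ ⟨t', ht', rfl⟩
    obtain ⟨g, τ, hf⟩ := exists_fd h htop hN y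
    obtain ⟨u, hu, rfl⟩ := inner_of h htop hN hT hA hy hf ((fixZ_iff_field h htop hN hT hA hy hf).1 hyZ)
    have ht0 : t ≠ 0 := by
      rintro rfl
      apply hm
      rw [zero_mul, h.x_zero]
      exact one_mem _
    have h1 : u * x k (t * s) = x k (t * s) * u := by
      rw [MulAut.conj_apply] at hc
      exact mul_inv_eq_iff_eq_mul.1 hc
    have h2 := star h hk ((ok_of_fix k ht).mul hs) (mul_ne_zero ht0 hs0) hu h1 (t := t' / t) (by rw [map_div₀, ht', ht])
    have e1 : t' / t * (t * s) = t' * s := by field_simp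
    rw [e1] at h2
    rw [MulAut.conj_apply, h2, mul_inv_cancel_right]
  fix := by
    rintro j _ ⟨k, hk, s, hs, hs0, rfl⟩ _ ⟨t, ht, rfl⟩ e he heZ
    obtain ⟨g, τ, hf⟩ := exists_fd h htop hN e
    obtain ⟨u, hu, rfl⟩ := inner_of h htop hN hT hA he hf ((fixZ_iff_field h htop hN hT hA he hf).1 heZ)
    rw [MulAut.conj_apply]
    exact fix_line h hk ((ok_of_fix k ht).mul hs) hu

/-- (k5) -/
theorem outA [Finite E] [Finite X] (htop : AA σ x = ⊤) (hN : NotTwo σ) {T : Sylow 2 X}
    (hT : (T : Subgroup X) = UU σ x) {ω : E} (hω : σ ω = ω) (hω0 : ω ≠ 0) (hω1 : ω ≠ 1)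
    (hq : Nat.card {a : E // σ a = a} ≤ 4 ∨ 8 ≤ Nat.card {a : E // σ a = a}) : OutA T := by
  have hTU : ∀ y, y ∈ T ↔ y ∈ UU σ x := fun y => by rw [← hT]; exact Iff.rfl
  rcases hq with h4 | h8
  · right; right; left
    refine ⟨?_, ?_⟩
    · refine le_trans (Nat.card_le_card_of_injective (β := {a : E // σ a = a})
        (fun z : {z : X // InZ T z} => (⟨((h.mem_gen_singleton.1 ((inZ_iff' h T hT).1 z.2)).choose : E),
          (h.mem_gen_singleton.1 ((inZ_iff' h T hT).1 z.2)).choose_spec.1 (by decide)⟩ : {a : E // σ a = a})) ?_) h4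
      intro z z' e
      have e1 := (h.mem_gen_singleton.1 ((inZ_iff' h T hT).1 z.2)).choose_spec.2
      have e2 := (h.mem_gen_singleton.1 ((inZ_iff' h T hT).1 z'.2)).choose_spec.2
      have e3 := congrArg Subtype.val e
      exact Subtype.ext (e1.trans ((congrArg (x 4) e3).trans e2.symm))
    · intro A hA
      have hW : gen σ x {2, 4} ≤ UU σ x := gen_mono (by
        rintro l (rfl | rfl)
        · show ((2 : ZMod 12) - 1).val < 6
          decide
        · show ((4 : ZMod 12) - 1).val < 6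
          decide)
      -- `U` normalises `W`
      have hUW : ∀ u ∈ UU σ x, ∀ w ∈ gen σ x {2, 4}, u * w * u⁻¹ ∈ gen σ x {2, 4} := by
        intro u hu w hw
        refine conj_gen (S := {2, 4}) (T := {2, 4}) (fun k hk a ha => ?_) hw
        rcases hk with rfl | rfl
        · have h1 := fix_line h (j := 3) (k := 2) rfl ha hu
          have h2 : gen σ x (Lv (3 + 1)) ≤ gen σ x {2, 4} := gen_mono (Lv_succ 3)
          have h3 := mul_mem (h2 h1) (x_mem_gen (S := {2, 4}) (Or.inl rfl) ha)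
          rwa [inv_mul_cancel_right] at h3
        · have h2 := X4_comm h (z := x 4 a) (p := u) (x_mem_gen (Set.mem_singleton _) ha) (U_le_P hu)
          rw [h2, mul_inv_cancel_right]
          exact x_mem_gen (Or.inr rfl) ha
      refine ⟨gen σ x {2, 4}, fun w hw => (hTU w).2 (hW hw), ?_, ?_, ?_⟩
      · intro e he w hw
        obtain ⟨g, τ, hf⟩ := exists_fd h htop hN e
        obtain ⟨u, hu, c₂, c₄, -, -, hc2, hc4, h2, h4'⟩ := act_long' h htop hN hT hA he hf
        have hτ : ∀ s, σ s = s → σ (τ s) = τ s := fun s hs => by rw [field_comm, hs]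
        have h5 : gen σ x {2, 4} ≤ (gen σ x {2, 4}).comap e.toMonoidHom := gen_le fun k hk a ha => by
          rw [mem_comap]
          rcases hk with rfl | rfl
          · change e (x 2 a) ∈ _
            rw [h2 a (ha (by decide))]
            exact hUW u hu _ (x_mem_gen (Or.inl rfl) (ok_of_fix 2 (by rw [map_mul, hc2, hτ a (ha (by decide))])))
          · change e (x 4 a) ∈ _
            rw [h4' a (ha (by decide))]
            exact x_mem_gen (Or.inr rfl) (ok_of_fix 4 (by rw [map_mul, hc4, hτ a (ha (by decide))]))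
        exact h5 hw
      · intro w hw
        obtain ⟨b, d, hb, hd, rfl⟩ := h.mem_24.1 hw
        rw [h.q_mul hb hd (map_zero σ) hb hd (map_zero σ)]
        simp only [trc_zero_left, mul_zero, add_zero, h.add_self]
        exact h.q_zero
      · intro e he heZ _
        obtain ⟨g, τ, hf⟩ := exists_fd h htop hN e
        obtain ⟨u, hu, c₂, c₄, -, -, hc2, hc4, h2, h4'⟩ := act_long' h htop hN hT hA he hf
        have hτ : ∀ s, σ s = s → σ (τ s) = τ s := fun s hs => by rw [field_comm, hs]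
        have hmv : ∀ c : E, ∃ r, σ r = r ∧ c * τ r ≠ r := by
          intro c
          by_contra hcon
          push Not at hcon
          apply heZ
          rw [fixZ_iff_field h htop hN hT hA he hf]
          intro s hs
          have e1 := hcon 1 (map_one σ)
          rw [map_one, mul_one] at e1
          have e2 := hcon s hs
          rwa [e1, one_mul] at e2
        obtain ⟨s, hs, hs1⟩ := hmv c₄
        obtain ⟨r, hr, hr1⟩ := hmv c₂
        have m4 : x 4 s ∈ gen σ x {2, 4} := x_mem_gen (Or.inr rfl) (ok_of_fix 4 hs)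
        have m2 : x 2 r ∈ gen σ x {2, 4} := x_mem_gen (Or.inl rfl) (ok_of_fix 2 hr)
        -- modulo `X₄`
        have key : ∀ d, σ d = d → e (x 4 d * x 2 r) ≠ x 4 d * x 2 r := by
          intro d hd e1
          have hr' : σ (c₂ * τ r) = c₂ * τ r := by rw [map_mul, hc2, hτ r hr]
          have hd' : σ (c₄ * τ d) = c₄ * τ d := by rw [map_mul, hc4, hτ d hd]
          rw [map_mul, h2 r hr, h4' d hd] at e1
          have h6 := fix_line h (j := 3) (k := 2) rfl (ok_of_fix 2 hr') hu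
          obtain ⟨p, hp, e2⟩ := h.mem_gen_singleton.1 (show _ ∈ gen σ x {4} from h6)
          have e3 : u * x 2 (c₂ * τ r) * u⁻¹ = x 4 p * x 2 (c₂ * τ r) := by rw [← e2]; group
          rw [e3] at e1
          have hp' : σ p = p := hp (by decide)
          -- coordinates
          have e4 : ∀ a b, σ a = a → σ b = b → x 4 a * x 2 b = q x b 0 a 0 0 := fun a b ha hb => by
            rw [h.q_234, h.x_zero, mul_one, h.s24 hb ha]
          rw [← mul_assoc, ← h.add 4 _ _ (ok_of_fix 4 hd') (ok_of_fix 4 hp'), e4 _ _ (by rw [map_add, hd', hp']) hr',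
            e4 _ _ hd hr] at e1
          exact hr1 (h.q_inj hr' (by rw [map_add, hd', hp']) (map_zero σ) hr hd (map_zero σ) e1).1
        refine ⟨x 4 s, m4, x 2 r, m2, ?_, ?_, key s hs⟩
        · rw [h4' s hs]
          intro e1
          exact hs1 ((h.x_inj (ok_of_fix 4 (by rw [map_mul, hc4, hτ s hs])) (ok_of_fix 4 hs)).1 e1)
        · have := key 0 (map_zero σ)
          rwa [h.x_zero, one_mul] at this
  · left
    intro A hA e he heZ
    obtain ⟨g, τ, hf⟩ := exists_fd h htop hN e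
    obtain ⟨u, hu, c₂, c₄, -, -, -, hc4, -, h4'⟩ := act_long' h htop hN hT hA he hf
    have hτ : ∀ s, σ s = s → σ (τ s) = τ s := fun s hs => by rw [field_comm, hs]
    have hmv : ∃ r, σ r = r ∧ c₄ * τ r ≠ r := by
      by_contra hcon
      push Not at hcon
      apply heZ
      rw [fixZ_iff_field h htop hN hT hA he hf]
      intro s hs
      have e1 := hcon 1 (map_one σ)
      rw [map_one, mul_one] at e1
      have e2 := hcon s hs
      rwa [e1, one_mul] at e2
    obtain ⟨a, b, ha, hb, h1, h2, h3⟩ := exists_two_moved (σ := σ) h.two h8 hω hω0 hω1 hmv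
    have mv : ∀ s, σ s = s → c₄ * τ s ≠ s → e (x 4 s) ≠ x 4 s := by
      intro s hs hs1 e1
      rw [h4' s hs] at e1
      exact hs1 ((h.x_inj (ok_of_fix 4 (by rw [map_mul, hc4, hτ s hs])) (ok_of_fix 4 hs)).1 e1)
    have inZ : ∀ s, σ s = s → InZ T (x 4 s) := fun s hs =>
      (inZ_iff' h T hT).2 (x_mem_gen (Set.mem_singleton _) (ok_of_fix 4 hs))
    refine ⟨x 4 a, x 4 b, inZ a ha, inZ b hb, mv a ha h1, mv b hb h2, ?_⟩
    rw [← h.add 4 a b (ok_of_fix 4 ha) (ok_of_fix 4 hb)]
    exact mv _ (by rw [map_add, ha, hb]) h3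

/-- **The K-facts of case (b).** -/
theorem aFacts [Finite E] [Finite X] (htop : AA σ x = ⊤) (hN : NotTwo σ) {T : Sylow 2 X}
    (hT : (T : Subgroup X) = UU σ x) {ω : E} (hω : σ ω = ω) (hω0 : ω ≠ 0) (hω1 : ω ≠ 1)
    (hq : Nat.card {a : E // σ a = a} ≤ 4 ∨ 8 ≤ Nat.card {a : E // σ a = a}) : AFacts T where
  sq := by
    intro z hz
    obtain ⟨s, hs, rfl⟩ := h.mem_gen_singleton.1 ((inZ_iff' h T hT).1 hz)
    exact h.x_sq hs
  cyc := by
    intro A hA a ha b hb haZ hbZ
    have : CharP E 2 := (CharP.charP_iff_prime_eq_zero Nat.prime_two).2 (by exact_mod_cast h.two)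
    obtain ⟨g, τ, hf⟩ := exists_fd h htop hN a
    obtain ⟨g', τ', hf'⟩ := exists_fd h htop hN b
    have sq1 : ∀ {a : MulAut X} {g : X} {τ : E ≃+* E}, a ∈ A → Fd σ x a g τ → FixZ T (a * a) → τ * τ = 1 := by
      intro a g τ ha hf haZ
      have haa : a * a ∈ A := A.mul_mem ha ha
      have h1 := (fixZ_iff_field h htop hN hT hA haa (hf.mul hf)).1 haZ
      obtain ⟨n, hn⟩ := hA.two ⟨_, haa⟩
      exact field_trivial h (fd_two h htop (hf.mul hf) (congrArg Subtype.val hn)) h1
    by_cases h1 : τ = 1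
    · left
      rw [fixZ_iff_field h htop hN hT hA ha hf, h1]
      exact fun s _ => rfl
    by_cases h2 : τ' = 1
    · right; left
      rw [fixZ_iff_field h htop hN hT hA hb hf', h2]
      exact fun s _ => rfl
    right; right
    have h3 := Cfsg.Agent.StdRank2.OutField.unique_invol (sq1 ha hf haZ) (sq1 hb hf' hbZ) h1 h2
    have hc : a⁻¹ * b ∈ A := A.mul_mem (A.inv_mem ha) hb
    obtain ⟨g'', τ'', hf''⟩ := exists_fd h htop hN (a⁻¹ * b)
    have h4 := hf.mul hf''
    rw [mul_inv_cancel_left] at h4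
    have h5 := h4.unique h htop hf'
    rw [← h3] at h5
    have h6 : τ'' = 1 := mul_eq_left.1 h5
    rw [fixZ_iff_field h htop hN hT hA hc hf'', h6]
    exact fun s _ => rfl
  field := by
    intro A hA e he g hg
    obtain ⟨m, τ, hf⟩ := exists_fd h htop hN e
    rw [fixZ_iff_field h htop hN hT hA he hf]
    set m' := g⁻¹ * e g * m with hm'
    have key : ∀ s, σ s = s → m' * x 4 (τ s) * m'⁻¹ = x 4 s := by
      intro s hs
      have e1 := hg _ ((inZ_iff' h T hT).2 (x_mem_gen (Set.mem_singleton _) (ok_of_fix 4 hs)))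
      rw [map_mul, map_mul, map_inv, hf 4 s (ok_of_fix 4 hs)] at e1
      calc m' * x 4 (τ s) * m'⁻¹ = g⁻¹ * (e g * (m * x 4 (τ s) * m⁻¹) * (e g)⁻¹) * g := by rw [hm']; group
        _ = x 4 s := by rw [e1]; group
    have h1 := key 1 (map_one σ)
    rw [map_one] at h1
    have h2 : m' ∈ gen σ x (arc 1 7) :=
      (h.mem_centralizer_x4 (by rw [htop]; exact mem_top _) (map_one σ) one_ne_zero).1 h1
    intro s hs
    have hτ : σ (τ s) = τ s := by rw [field_comm, hs]
    have h3 := key s hs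
    rw [X4_comm h (z := x 4 (τ s)) (x_mem_gen (Set.mem_singleton _) (ok_of_fix 4 hτ)) h2, mul_inv_cancel_right] at h3
    exact (h.x_inj (ok_of_fix 4 hτ) (ok_of_fix 4 hs)).1 h3
  filt := fun A hA => ⟨_, _, fltA h htop hN hT hω hω0 hω1 hA⟩
  graph := by
    intro A hA a ha b _ haZ _
    left
    obtain ⟨g, τ, hf⟩ := exists_fd h htop hN a
    obtain ⟨u, -, rfl⟩ := inner_of h htop hN hT hA ha hf ((fixZ_iff_field h htop hN hT hA ha hf).1 haZ)
    exact ⟨u, rfl⟩
  out := outA h htop hN hT hω hω0 hω1 hq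

end Cfsg.Agent.OddHalf.D4.HexFree

end
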